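import Cfsg.Agent.Fu.T1

/-! Generators of the normaliser of `3^{1+4}` in `Co0`. -/

set_option autoImplicit false

namespace Cfsg.Agent.Fu.T

open Cfsg.Agent.Co Cfsg.Agent.Co.A Cfsg.Spor Cfsg.Agent.H4 Cfsg.Agent.L Cfsg.Agent.L.PC
  Cfsg.Agent.Jc Matrix

def sv : Sp := ![(0, false), (2, true), (1, false), (3, true), (11, false), (7, false), (10, true), (6, true), (5, false), (8, true), (4, false), (9, true)]
def sσ : Sp := ![(0, false), (2, false), (1, false), (3, false), (5, false), (4, false), (6, false), (8, false), (7, false), (9, false), (11, false), (10, false)]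
def su : Sp := ![(0, true), (1, true), (2, true), (3, true), (5, true), (4, true), (9, true), (11, true), (10, true), (6, true), (8, true), (7, true)]
def sw : Sp := ![(3, true), (1, false), (2, false), (0, true), (4, false), (5, false), (9, false), (8, true), (7, true), (6, false), (11, true), (10, true)]
def cR : ℕ := 0x62106421083294a4210a420c64210c000000000032948518c642108318c8529085194a00000000004218a42108528ca4210a410ca421080000000000529483194a421085194852908529460000000000518c8518ca4210832948519085194600000000004110642108518ca4110a42146421080000000000319485294a4210852948529083194a00000000004210a4210c3194a4208a4214a4210800000000004210a421043194a4218a4214a4210800000000004210641108328c64210a4214a2210800000000004210662108519464210a420ca4310800000000004210642188318ca22106420ca42108000000000042106421085294a421062214a421880000000000519485194642108528c832908518c600000000004210622108519464210a420ca4110800000000004210a42188529462210a4214642108000000000052948528ca421083194832908318c600000000004210643108328c64210a4214a6210800000000004208a42108528ca4210a430ca42108000000000031948318ca421083294832908528ca0000000000328c85194a421085194831908518ca00000000004110a421083294641106420ca4210800000000004210a42108318c64210a220c64218800000000006210a42108518c6421064214a4210c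
def cQ : ℕ := 0x5210841908520c63190a31946328ca00000000006294a5214a41908620c8421084210800000000005210842908520ca32906328ca3294a00000000003210841908520ca5190a528c65294a0000000000428c6520ca419084314842104421080000000000418ca3214a4190842148621082210800000000005210841908520ca3290a5194a5194600000000002294a5214a41908220c842108421080000000000429463214a6298842148421084210800000000004194a3214642908430c842104421080000000000418ca520c661988420c842108421080000000000428ca320ca4290c420c84210842088000000000032108419083214a5290a3194a3294a00000000003210841908520c65290a328ca318c600000000005210841908321463290a528ca528ca0000000000428ca53146429084214c4210842108000000000041946330ca41908420cc42108421080000000000418c65214a42908420c8421084110c0000000000428c63214641908420c8431884210800000000003210842908520c6529065194a528ca0000000000418ca3214a419084214822108621080000000000428c63214641908420c841088421080000000000428ca320ca42904420c8421084218800000000004294a320c64190842148421084110c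
def cQi : ℕ := 0x5314642144421083194842106421080000000000429085190a518ca4210a319483294a0000000000429083190a528c642106518c8318ca0000000000429083290a3294a4210a318c85194a0000000000429085190a319464210a328c8318c6000000000032146420c842108318cc6210a421080000000000429083290a528c64210a32948528c60000000000429085290a518ca42106528c85194600000000005214a4214862188328c84210a4210800000000004190831906528ca4210a328c8319460000000000320c6420c86218851948421064210800000000003214a421484210c518c842106420880000000000330ca420c442108528c84210a421080000000000321466214843108529484210a4210800000000004190852906518c64210a318c8518ca0000000000520ca42148421085294c62106421080000000000320ca4314842108319484210a2210800000000003214a420c8421083294842186411080000000000520c64214842108518c84218a411080000000000321462214841108529484210a421080000000000320ca4114842108319484210a6210800000000005214a420c842108519484110a4210400000000003214a4214842104518c8421064218800000000005214a420c842108519484310a4210c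
def cAi : ℕ := 0x3a4e719d293a52739ce739d2929ceb00000000002ad29494e749ce9495294a4e73952900000000005a56739d25394a739ce739d2949ce700000000004ad294a4eb49ce54a4a94a4eb3a52900000000003a4e739d29395273aceb39ca549ce7000000000049ca94a56749ce9494a94a4e73a4a900000000003956b39d293a52739ceb3ad2949ce700000000003a4e73ad293952b39ce73ad2949d6700000000005a4e739d295a52739d673aca949ce7000000000049d254a4e74ace94a4a92a4e7395290000000000394e739ca95952759ce739d2949ce700000000005a4e739ca93a52b39ceb59d2949ce7000000000049ca9494e729ce94a5292a4eb3a52900000000003a4e739d253a5275ace75ad2949ce700000000004ad294a4e749d694a5292a5673a4a900000000003a4e73ad293a4a759d6b39d2949ce7000000000049d294a4eb29ce94a5254a4e7394a9000000000049ca94a4e749ce52a5294a56739529000000000049d254956b49ce94a5294a5673a529000000000049d294a56749d694a529494eb3952900000000003a4e759d293a52739ce739d2969ceb000000000049d254a4e729d65495294a4e73a52900000000005a4eb39d293a52759ce739d2549d67000000000049d292a4e749ce94a5294a4e75a52d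

def g5 : Fin 5 → Sp := ![sa, sb, sz, s1, s2]
def fw (L : List (Fin 5)) : Sp := List.rec s0 (fun k _ σ => sc (g5 k) σ) L

theorem cc_one : ∀ i, cc i 1 = 0 := by decide

theorem cp_tw (σ τ : Sp) : cp (tw σ 1) (tw τ 1) = tw (sc σ τ) 1 := by
  funext i; simp [cp, tw, sc, cc_one]

theorem Rep_mul {g h : Co0} {σ τ : Sp} (hg : Rep g (tw σ 1)) (hh : Rep h (tw τ 1)) :
    Rep (g * h) (tw (sc σ τ) 1) := cp_tw σ τ ▸ hg.mul hh

theorem Rep_one : Rep 1 (tw s0 1) := fun x => by
  have := io_rep 1 x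
  rw [map_one] at this
  exact this

theorem rep_g5 (k : Fin 5) : ∃ g, Rep g (tw (g5 k) 1) := by
  fin_cases k
  · exact ⟨_, (by decide : mS ga = tw sa 1) ▸ io_rep ga⟩
  · exact ⟨_, (by decide : mS gb = tw sb 1) ▸ io_rep gb⟩
  · exact ⟨_, (by decide : mS gz = tw sz 1) ▸ io_rep gz⟩
  · exact exists_rep ck_1.1 ck_1.2
  · exact exists_rep ck_2.1 ck_2.2

theorem rep_fw (L : List (Fin 5)) : ∃ g, Rep g (tw (fw L) 1) := by
  induction L with
  | nil => exact ⟨1, Rep_one⟩
  | cons k L ih =>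
    obtain ⟨g, hg⟩ := rep_g5 k
    obtain ⟨h, hh⟩ := ih
    exact ⟨g * h, Rep_mul hg hh⟩

theorem rep_of (L : List (Fin 5)) {σ : Sp} (h : ∀ i, fw L i = σ i) : ∃ g, Rep g (tw σ 1) :=
  funext h ▸ rep_fw L

theorem ex_v : ∃ g, Rep g (tw sv 1) :=
  rep_of [3, 4, 3, 4, 3, 1, 4, 3, 3, 3, 4, 0, 3, 4, 3] (by decide +kernel)
theorem ex_σ : ∃ g, Rep g (tw sσ 1) := rep_of [3, 3] (by decide +kernel)
theorem ex_d : ∃ g, Rep g (tw sd 1) :=
  rep_of [3, 4, 3, 2, 4, 3, 4, 3, 1, 4, 3, 2, 4, 3, 0] (by decide +kernel)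
theorem ex_u : ∃ g, Rep g (tw su 1) :=
  rep_of [4, 3, 4, 3, 3, 3, 2, 4, 3, 4, 3, 1, 4, 3, 2, 4, 3, 0] (by decide +kernel)
theorem ex_w : ∃ g, Rep g (tw sw 1) :=
  rep_of [0, 3, 4, 3, 1, 1, 4, 3, 2, 4, 3, 0] (by decide +kernel)

/-- generators of `S6` -/
def xp : S6 := ⟨1, 0, 0, 0, 0, 0⟩
def xq : S6 := ⟨0, 1, 0, 0, 0, 0⟩
def xs : S6 := ⟨0, 0, 1, 0, 0, 0⟩
def xu : S6 := ⟨0, 0, 0, 1, 0, 0⟩
def xa : S6 := ⟨0, 0, 0, 0, 1, 0⟩
def xz : S6 := ⟨0, 0, 0, 0, 0, 1⟩

theorem ind6 {K : Submonoid S6} {x : S6} (hp : x.p ≠ 0 → xp ∈ K) (hq : x.q ≠ 0 → xq ∈ K)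
    (hs : x.s ≠ 0 → xs ∈ K) (hu : x.u ≠ 0 → xu ∈ K) (ha : x.a ≠ 0 → xa ∈ K)
    (hz : x.z ≠ 0 → xz ∈ K) : x ∈ K := by
  have v : ∀ {g : S6} (f : K3 → S6) (k : K3), (k ≠ 0 → g ∈ K) → (∀ k, f k = g ^ k.val) →
      f k ∈ K := fun f k hg h => by
    by_cases e : k = 0
    · rw [h, e]; exact one_mem _
    · exact h k ▸ pow_mem (hg e) _
  have e : x = ⟨x.p, 0, 0, 0, 0, 0⟩ * ⟨0, x.q, 0, 0, 0, 0⟩ * ⟨0, 0, x.s, 0, 0, 0⟩ *
      ⟨0, 0, 0, x.u, 0, 0⟩ * ⟨0, 0, 0, 0, x.a, 0⟩ * ⟨0, 0, 0, 0, 0, x.z⟩ := by ext <;> simp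
  rw [e]
  exact mul_mem (mul_mem (mul_mem (mul_mem (mul_mem
    (v (⟨·, 0, 0, 0, 0, 0⟩) _ hp (by decide)) (v (⟨0, ·, 0, 0, 0, 0⟩) _ hq (by decide)))
    (v (⟨0, 0, ·, 0, 0, 0⟩) _ hs (by decide))) (v (⟨0, 0, 0, ·, 0, 0⟩) _ hu (by decide)))
    (v (⟨0, 0, 0, 0, ·, 0⟩) _ ha (by decide))) (v (⟨0, 0, 0, 0, 0, ·⟩) _ hz (by decide))

/-- `g` induces `f` on the elements of `P`. -/
def indS (g : Co0) (f : S6 → S6) (P : Subgroup S6) (h1 : f 1 = 1)
    (hf : ∀ x ∈ P, ∀ y ∈ P, f (x * y) = f x * f y) : Submonoid S6 where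
  carrier := {x | x ∈ P ∧ g * ι x * g⁻¹ = ι (f x)}
  one_mem' := ⟨one_mem _, by simp [h1]⟩
  mul_mem' := fun {x y} a b => ⟨mul_mem a.1 b.1, by
    rw [hf x a.1 y b.1, map_mul, map_mul, ← a.2, ← b.2]; group⟩

theorem conj_rep {g : Co0} {m : Mo} (hg : Rep g m) {x y : S6}
    (h : ∀ i, cp m (mS (emb x)) i = cp (mS (emb y)) m i) : g * ι x * g⁻¹ = ι y :=
  mul_inv_eq_iff_eq_mul.2 ((hg.mul (io_rep _)).uniq (funext h ▸ (io_rep _).mul hg))

theorem conj_all {g : Co0} {m : Mo} (hg : Rep g m) (f : S6 → S6) (h1 : f 1 = 1)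
    (hf : ∀ x y, f (x * y) = f x * f y)
    (h : ∀ x ∈ [xp, xq, xs, xu, xa, xz], ∀ i, cp m (mS (emb x)) i = cp (mS (emb (f x))) m i)
    (x : S6) : g * ι x * g⁻¹ = ι (f x) := by
  have k : ∀ x ∈ [xp, xq, xs, xu, xa, xz], x ∈ indS g f ⊤ h1 fun x _ y _ => hf x y :=
    fun x hx => ⟨trivial, conj_rep hg (h x hx)⟩
  exact (ind6 (fun _ => k _ (by simp)) (fun _ => k _ (by simp)) (fun _ => k _ (by simp))
    (fun _ => k _ (by simp)) (fun _ => k _ (by simp)) fun _ => k _ (by simp)).2

def fv (x : S6) : S6 := ⟨-x.p, x.q - x.s, x.q + x.s, x.u, x.a - x.z, x.a + x.z⟩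
def fσ (x : S6) : S6 := ⟨x.p, x.q, -x.s, x.u, x.a, -x.z⟩
def fu (x : S6) : S6 := ⟨-x.p, x.q, x.s, -x.u, -x.a, -x.z⟩
def fρ (x : S6) : S6 := ⟨-x.p + 2 * (x.q * x.a + x.s * x.z), -x.z, x.a, 0, -x.s, x.q⟩
def fr (x : S6) : S6 := ⟨x.p - x.a ^ 2, x.q - x.a, x.s, x.u, x.a, x.z⟩

theorem three : (3 : K3) = 0 := rfl

theorem cj_v {g : Co0} (hg : Rep g (tw sv 1)) (x : S6) : g * ι x * g⁻¹ = ι (fv x) :=
  conj_all hg fv (by decide) (fun x y => by
    ext <;> simp [fv] <;> grind) (by decide +kernel) x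
theorem cj_σ {g : Co0} (hg : Rep g (tw sσ 1)) (x : S6) : g * ι x * g⁻¹ = ι (fσ x) :=
  conj_all hg fσ (by decide) (fun x y => by ext <;> simp [fσ] <;> ring) (by decide +kernel) x
theorem cj_u {g : Co0} (hg : Rep g (tw su 1)) (x : S6) : g * ι x * g⁻¹ = ι (fu x) :=
  conj_all hg fu (by decide) (fun x y => by ext <;> simp [fu] <;> ring) (by decide +kernel) x
theorem cj_d {g : Co0} (hg : Rep g (tw sd 1)) (x : S6) : g * ι x * g⁻¹ = ι (d6 x) :=
  conj_all hg d6 (by decide) (fun x y => by ext <;> simp [d6] <;> ring) (by decide +kernel) x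

theorem cj_w {g : Co0} (hg : Rep g (tw sw 1)) {x : S6} (hx : x ∈ J4) :
    g * ι x * g⁻¹ = ι (w6 x) := by
  have hf : ∀ x ∈ J4, ∀ y ∈ J4, w6 (x * y) = w6 x * w6 y := fun x a y b => by
    ext <;> simp [w6, a.1, a.2]; ring
  have k : ∀ x ∈ [xp, xq, xs, xu], x ∈ J4 → x ∈ indS g w6 J4 (by decide) hf :=
    fun x hx hJ => ⟨hJ, conj_rep hg ((by decide +kernel : ∀ x ∈ [xp, xq, xs, xu], ∀ i,
      cp (tw sw 1) (mS (emb x)) i = cp (mS (emb (w6 x))) (tw sw 1) i) x hx)⟩
  exact (ind6 (fun _ => k _ (by simp) ⟨rfl, rfl⟩) (fun _ => k _ (by simp) ⟨rfl, rfl⟩)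
    (fun _ => k _ (by simp) ⟨rfl, rfl⟩) (fun _ => k _ (by simp) ⟨rfl, rfl⟩)
    (fun h => absurd hx.1 h) fun h => absurd hx.2 h).2

theorem cj_r (x : S6) : io gr * ι x * (io gr)⁻¹ = ι (fr x) := by
  rw [ι_apply, ι_apply, ← map_inv, ← map_mul, ← map_mul]
  congr 1
  ext <;> simp [emb_apply, gr, fr] <;> ring

theorem conj_mat {g : Co0} {A B C : ℕ} {x y : S6} (hg : ∀ v : leechLattice,
    mA A *ᵥ (v : GolayPt → ℤ) = (8 : ℤ) • (hm g v : GolayPt → ℤ))
    (h : tR B (mS (emb x)) = true ∧ tR C (mS (emb y)) = true ∧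
      allb (fun i => allb (fun k => decide (mm A B i k = mm C A i k)) 24) 24 = true) :
    g * ι x * g⁻¹ = ι y := by
  have e : mA A * mA B = mA C * mA A := by
    ext i k
    exact (sum_genc fun l => en A _ l * en B l _).trans ((of_decide_eq_true (allb_iff.1
      (allb_iff.1 h.2.2 _ (GE.lt i)) _ (GE.lt k))).trans
        (sum_genc fun l => en C _ l * en A l _).symm)
  refine mul_inv_eq_iff_eq_mul.2 (hm_ext fun x => Subtype.ext
    (smul_right_injective _ (by decide : (8 * 8 : ℤ) ≠ 0) ?_))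
  simp only [hm_mul, mul_smul, ι_apply]
  rw [← hg, ← (io_rep _).mat h.2.1, ← mulVec_smul, ← mulVec_smul, ← hg,
    ← (io_rep _).mat h.1, mulVec_mulVec, mulVec_mulVec, e]

theorem ck_R : tM cR = true := by decide +kernel
theorem ck_Rq : tR cQ (mS (emb xq)) = true ∧ tR cZ (mS (emb (fρ xq))) = true ∧
    allb (fun i => allb (fun k => decide (mm cR cQ i k = mm cZ cR i k)) 24) 24 = true := by
  decide +kernel
theorem ck_Rs : tR cS (mS (emb xs)) = true ∧ tR cAi (mS (emb (fρ xs))) = true ∧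
    allb (fun i => allb (fun k => decide (mm cR cS i k = mm cAi cR i k)) 24) 24 = true := by
  decide +kernel
theorem ck_Ra : tR cA (mS (emb xa)) = true ∧ tR cS (mS (emb (fρ xa))) = true ∧
    allb (fun i => allb (fun k => decide (mm cR cA i k = mm cS cR i k)) 24) 24 = true := by
  decide +kernel
theorem ck_Rz : tR cZ (mS (emb xz)) = true ∧ tR cQi (mS (emb (fρ xz))) = true ∧
    allb (fun i => allb (fun k => decide (mm cR cZ i k = mm cQi cR i k)) 24) 24 = true := by
  decide +kernel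

/-- the inner product with `(1, 1, 1)` -/
def b1 (v : Ve) : ℤ := bf (v 0) 1 + bf (v 1) 1 + bf (v 2) 1

theorem ck_Rm : allb (fun k => decide (∀ i : Fin 12, i.val < 3 →
    (3 : ℤ) • pc cR k i = (8 : ℤ) • ((3 : ℤ) • col k i - (b1 (col k) : Ei)))) 24 = true := by
  decide +kernel

theorem ex_ρ : ∃ g : Co0, (∀ x ∈ Q5, g * ι x * g⁻¹ = ι (fρ x)) ∧ ∀ x (i : Fin 12), i.val < 3 →
    (3 : ℤ) • Pl (hm g x) i = (3 : ℤ) • Pl x i - (b1 (Pl x) : Ei) := by
  obtain ⟨g, hg⟩ := exists_co0 ck_R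
  have hf : ∀ x ∈ Q5, ∀ y ∈ Q5, fρ (x * y) = fρ x * fρ y := fun x a y b => by
    ext <;> simp [fρ, mem_Q5.1 a, mem_Q5.1 b] <;> grind
  let K := indS g fρ Q5 (by decide) hf
  have kq : xq ∈ K := ⟨rfl, conj_mat hg ck_Rq⟩
  have ka : xa ∈ K := ⟨rfl, conj_mat hg ck_Ra⟩
  refine ⟨g, fun x hx => (ind6 (K := K) (fun _ => ?_) (fun _ => kq)
    (fun _ => ⟨rfl, conj_mat hg ck_Rs⟩) (fun h => absurd hx h) (fun _ => ka)
    fun _ => ⟨rfl, conj_mat hg ck_Rz⟩).2, fun x i hi => ?_⟩
  · rw [show xp = xq * xa * xq * xq * xa * xa by decide]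
    exact mul_mem (mul_mem (mul_mem (mul_mem (mul_mem kq ka) kq) kq) ka) ka
  let A : (GolayPt → ℤ) →+ Ei := AddMonoidHom.mk' (fun x => (3 : ℤ) • Ph (mA cR *ᵥ x) i)
    fun x y => by simp [mulVec_add]
  let B : (GolayPt → ℤ) →+ Ei := AddMonoidHom.mk'
    (fun x => (8 : ℤ) • ((3 : ℤ) • Ph x i - (b1 (Ph x) : Ei))) fun x y => by
      ext <;> simp [b1, bf] <;> ring
  have e : A = B := by
    refine AddMonoidHom.functions_ext' _ _ _ fun k => AddMonoidHom.ext_int ?_
    change (3 : ℤ) • Ph (mA cR *ᵥ Pi.single k 1) i =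
      (8 : ℤ) • ((3 : ℤ) • Ph (Pi.single k 1) i - (b1 (Ph (Pi.single k 1)) : Ei))
    have e1 : Ph (Pi.single k 1) = col (genc k) := funext fun i => by
      ext <;> simp [Ph, Co.A.col, Co.A.P0, Co.A.P1]
    rw [e1, mulVec_single_one]
    exact (congrArg (fun v : Ve => (3 : ℤ) • v i) (Ph_col cR (genc k))).trans
      (of_decide_eq_true (allb_iff.1 ck_Rm _ (GE.lt k)) i hi)
  have h : (3 : ℤ) • Ph (mA cR *ᵥ (x : GolayPt → ℤ)) i =
      (8 : ℤ) • ((3 : ℤ) • Pl x i - (b1 (Pl x) : Ei)) := DFunLike.congr_fun e (x : GolayPt → ℤ)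
  rw [hg, map_zsmul, Pi.smul_apply, smul_comm] at h
  have h1 := congrArg QuadraticAlgebra.re h
  have h2 := congrArg QuadraticAlgebra.im h
  ext
  exacts [mul_left_cancel₀ (by decide : (8 : ℤ) ≠ 0) h1, mul_left_cancel₀ (by decide : (8 : ℤ) ≠ 0) h2]

end Cfsg.Agent.Fu.T
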