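import Cfsg.Agent.Fu.TG1

/-! Transitivity of the normaliser of `3^{1+4}` on commuting pairs. -/

set_option autoImplicit false

namespace Cfsg.Agent.Fu.T

open Cfsg.Agent.Co Cfsg.Agent.Co.A Cfsg.Spor Cfsg.Agent.H4 Cfsg.Agent.L Cfsg.Agent.L.PC

def cW1 : ℕ := 0x970a00004b85400004970900924b85c00004b90a00124970b00004925c0002492e400000924b00924970c0012492e100124970900924972100004b86300000b85a0092492e400124925c00024924b0092492e30000002e30000012e30092492e100004970a00924972304924b86100025c30a00000000300000b86100000972100000b8530000012e100000970c00000170900000125c0000092e400000024b04924b90a00000b85c00000170b00004b85c00000970b0492497090000002e400000005c00000000b04924970a0000092e10000097230002492e30000092e30012492e300005c30900004b86100000124b00924b84b0002492e100124970c00124972100124970a00924b85400024925c0012492e400004924b00000170a00000172100000b8540000002e100000b84b00000170c0000012e400000025c00000004b000000049000001249000009249000000001000049249000000009000000249000000000000000000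
def cW2 : ℕ := 0x27216a100390b50a0000006a301385a90a00070b5210000135230000e16a100270b50a00390970900000000000000000000000000000000000000000000000000000000000000000000000000000000000000000000000000000000000000000000000000000000000000000000000000000000000000000000270b52100385a90a00000352300385c3090007216a10000026a300070b50a0004e16a100384b9090000000000000000000000000000000000000000000000000000000000000000000000000000000000000000000000000000000000000000000000000000000000000000000000000000000000000000004e14e42e370a7214e30000000022e18d430b0e14e42e3000000000000000000000000000000000000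
def cTq : ℕ := 0x4ea13e5cd99225498d163c3851203f82f9ebc76e9cb86ed99b568c19315abd72b54b1427529522646890a03e78e9c3660d192a5cb12284c80f223460e14245880e18284060808000000000000000000000000000000000000000000000000000000000000000000000000000000000004656427b432f510786a06cc6259d1f090128a92b89b738063ac2341a9a7c8c444523a6b22eed00582985ca5e51c1d051550f9cccc3c421a127192d81572781bf482642d24d8d8000000000000000000000000000000000000000000000000000000000000000000000000000000000003262c1ab466bd72d52a13ac56a93254880f9e468909d386e6cc97427ce9526444870a3c68b0603f76e9cbe7af1c376c5cb153464c14264870d184480f1628485080c4070c0808000000000000000000000000000000000000000000000000000000000000000000000000000000000001e3a88e21408cf9b2a50c93305cd16250a0c6811624786fc60b202878e22344b970f5bbc76f9d3660bda2e66c9ab15b2e54f933a6d099213a6569552958a1203041c0860a2020000000000000000000000000000000000000000000000000000000000000000000000000000000000000000000000000000000000000000000000000000000000000000000000000000000000000000000000000000000000000000000000000000000000000000000000000000000000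
def cTr : ℕ := 0x5abd7336ad183262fe0c08b1e342890db386ef1f3d72edd12284cc1a3254b9648992aa58ad3a9506ce9c428d11e407c791203070d122c506101c1850800101000000000000000000000000000000000000000000000000000000000000000000000000000000000000000000000000003e822a2470a0c008a14bc56b1cb86e09ab414c9888203893a76a9ebe4e9928187110c68e78e9c0a68c872e5858d22b49af1eb8a0c2acc4b03018dbf06d9200000000000000000000000000000000000000000000000000000000000000000000000000000000000000000000000000008f120c687022c27ef9db87ae9bbc72d9ab25ed18ae66c16ac52995a84aa93a44680ea23e7109e3668b9432589982a4858a1220386224078e1a30284060808000000000000000000000000000000000000000000000000000000000000000000000000000000000000000000000000000891e0c38d021457eedf3874f5bb978d99355ec5a2e60cd6a9589942b4a9d524408ce9f4470f21365cd142c6499530483880c28589224078e1a30284060808000000000000000000000000000000000000000000000000000000000000000000000000000000000000000000000000000000000000000000000000000000000000000000000000000000000000000000000000000000000000000000000000000000000000000000000000000000000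

theorem exists_autQ {g : Co0} (hg : g ∈ NQ) :
    ∃ τ, AutQ τ ∧ ∀ x ∈ Q5, g * ι x * g⁻¹ = ι (τ x) := by
  choose! τ h1 h2 using mem_NQ.1 hg
  refine ⟨τ, ⟨h1, fun x a y b => ι_inj ?_, fun x a e => ι_inj ?_⟩, h2⟩
  · rw [map_mul, ← h2 x a, ← h2 y b, ← h2 _ (mul_mem a b), map_mul]; group
  · have := h2 x a
    rw [e, map_one, mul_inv_eq_one, mul_eq_left] at this
    rw [this, map_one]

theorem AutQ.one {τ : S6 → S6} (h : AutQ τ) : τ 1 = 1 := by
  simpa using h.mul 1 (one_mem _) 1 (one_mem _)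

theorem AutQ.comp {τ σ : S6 → S6} (h : AutQ τ) (k : AutQ σ) : AutQ (σ ∘ τ) :=
  ⟨fun x a => k.mem _ (h.mem x a), fun x a y b => by
    simp only [Function.comp, h.mul x a y b, k.mul _ (h.mem x a) _ (h.mem y b)],
    fun x a e => h.inj x a (k.inj _ (h.mem x a) e)⟩

theorem AutQ.cj {τ : S6 → S6} (h : AutQ τ) {x y z : S6} (a : x ∈ Q5) (b : y ∈ Q5) (c : z ∈ Q5)
    (e : x * y = z * x) : τ x * τ y = τ z * τ x := by rw [← h.mul x a y b, e, h.mul z c x a]

theorem AutQ.z {τ : S6 → S6} (h : AutQ τ) : τ xp = xp ∨ τ xp = xp⁻¹ := by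
  have e := h.cj (x := xq) (y := xa) (z := xa * xp) rfl rfl rfl (by decide)
  rw [h.mul xa rfl xp rfl] at e
  have a := h.mem xq rfl
  have b := h.mem xa rfl
  have c := h.mem xp rfl
  have n : τ xp ≠ 1 := fun e => absurd (h.inj xp rfl e) (by decide)
  simp only [S6.ext_iff, mu_q, mu_s, mu_a, mu_z, mem_Q5.1 a, mem_Q5.1 b, mem_Q5.1 c] at e
  have : τ xp = ⟨(τ xp).p, 0, 0, 0, 0, 0⟩ := by ext <;> simp [mem_Q5.1 c] <;> grind
  rw [this] at n ⊢
  exact (by decide : ∀ k : K3, (⟨k, 0, 0, 0, 0, 0⟩ : S6) ≠ 1 →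
    (⟨k, 0, 0, 0, 0, 0⟩ : S6) = xp ∨ (⟨k, 0, 0, 0, 0, 0⟩ : S6) = xp⁻¹) _ n

theorem inM_iff {x : leechLattice} : InM x ↔ hm (ι xp) x = x := by
  refine ⟨fun h => Pl_inj (funext fun i => ?_), fun h i hi => ?_⟩
  · rw [ι_apply, Pl_J ⟨rfl, rfl, rfl⟩]
    by_cases hi : 3 ≤ i.val
    · rw [h i hi, mul_zero]
    · rw [(by decide : ∀ i : Fin 12, ¬3 ≤ i.val → om (cc i (emb xp)) = 1) i hi, one_mul]
  · refine om_fix ((by decide : ∀ i : Fin 12, 3 ≤ i.val → cc i (emb xp) ≠ 0) i hi) ?_
    rw [← Pl_J ⟨rfl, rfl, rfl⟩, ← ι_apply, h]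

theorem inM_NQ {g : Co0} (hg : g ∈ NQ) {x : leechLattice} (hx : InM x) : InM (hm g x) := by
  obtain ⟨τ, h, e⟩ := exists_autQ (inv_mem hg)
  have e1 : ι xp * g = g * ι (τ xp) := by rw [← e xp rfl]; group
  rw [inM_iff] at hx ⊢
  rw [← hm_mul, e1, hm_mul]
  rcases h.z with k | k <;> rw [k]
  · rw [hx]
  · conv_lhs => rw [← hx, ← hm_mul (ι xp⁻¹), ← map_mul, inv_mul_cancel, map_one, hm_one]

/-- extension by zero -/
def ex (v : Mv) : Ve := fun i => if h : i.val < 3 then v ⟨i, h⟩ else 0

theorem crd_iff {x : leechLattice} {v : Mv} : Crd x v ↔ ∀ i, Pl x i = 24 * ex v i := by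
  refine ⟨fun h i => ?_, fun h => ⟨fun i hi => ?_, fun i => ?_⟩⟩
  · by_cases hi : i.val < 3
    · rw [ex, dif_pos hi]; exact h.2 ⟨i, hi⟩
    · rw [ex, dif_neg hi, h.1 i (by omega), mul_zero]
  · rw [h, ex, dif_neg (by omega), mul_zero]
  · rw [h, ex, dif_pos (by simp)]; rfl

/-- the 72 roots -/
def root (n : ℕ) : Mv := fun i =>
  if n < 18 then (if i.val = n / 6 then sgn (Nat.ble 3 (n % 6)) * (θ3 * om n) else 0)
  else sgn (Nat.ble 45 n) * om (((n + 9) / 3 ^ (2 - i.val) : ℕ) : K3)

def enc (x : S6) : ℕ := x.q.val + 3 * x.s.val + 9 * x.a.val + 27 * x.z.val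
def tb (c k x : ℕ) : ℕ :=
  cond (Nat.blt 0 k && Nat.blt k 5) (app 7 c (Nat.add (Nat.mul 128 k) x)) x
def evw (c w x n : ℕ) : ℕ := Nat.rec x (fun i acc => tb c (app 3 w i) acc) n

/-- `g` acts by `f` on `Q / Z` and by `r` on the roots. -/
def Tk (g : Co0) (f r : ℕ → ℕ) : Prop :=
  (∀ x ∈ Q5, ∃ y ∈ Q5, g * ι x * g⁻¹ = ι y ∧ enc y = f (enc x)) ∧
    ∀ i < 72, r i < 72 ∧ ∀ x, Crd x (root i) → Crd (hm g x) (root (r i))

theorem Tk.mul {g h : Co0} {f r f' r' : ℕ → ℕ} (a : Tk g f r) (b : Tk h f' r') :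
    Tk (g * h) (fun x => f (f' x)) fun x => r (r' x) := by
  refine ⟨fun x hx => ?_, fun i hi => ⟨(a.2 _ (b.2 i hi).1).1, fun x hx =>
    (a.2 _ (b.2 i hi).1).2 _ ((b.2 i hi).2 x hx)⟩⟩
  obtain ⟨y, hy, e, k⟩ := b.1 x hx
  obtain ⟨z, hz, e', k'⟩ := a.1 y hy
  exact ⟨z, hz, by rw [← e', ← e]; group, by rw [k', k]⟩

theorem Tk.nq {g : Co0} {f r : ℕ → ℕ} (a : Tk g f r) : g ∈ NQ :=
  mem_NQ.2 fun x hx => (a.1 x hx).imp fun _ h => ⟨h.1, h.2.1⟩

theorem ap_24 (m : Mo) (v : Ve) (i : Fin 12) : ap m (fun i => 24 * v i) i = 24 * ap m v i := by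
  simp only [ap]
  rcases (m i).2.1 with _ | _ <;> simp only [cjg, cond_true, cond_false, star_mul', star_ofNat] <;>
    ring

theorem Tk.of {g : Co0} {k : ℕ} {f : S6 → S6} (h1 : ∀ x ∈ Q5, g * ι x * g⁻¹ = ι (f x))
    (h0 : ∀ x ∈ Q5, f x ∈ Q5) (h2 : ∀ x, enc (f x) = enc (f ⟨0, x.q, x.s, x.u, x.a, x.z⟩))
    (h3 : ∀ q s a z, enc (f ⟨0, q, s, 0, a, z⟩) = tb cTq k (enc ⟨0, q, s, 0, a, z⟩))
    (h4 : ∀ i < 72, tb cTr k i < 72 ∧ ∀ x, Crd x (root i) → Crd (hm g x) (root (tb cTr k i))) :
    Tk g (tb cTq k) (tb cTr k) :=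
  ⟨fun x hx => ⟨_, h0 x hx, h1 x hx, by rw [h2, mem_Q5.1 hx, h3]; rfl⟩, h4⟩

theorem mono_rt {g : Co0} {m : Mo} (hg : Rep g m) {k : ℕ} (h : allb (fun n => decide
    (tb cTr k n < 72 ∧ ∀ i, ap m (ex (root n)) i = ex (root (tb cTr k n)) i)) 72 = true) :
    ∀ i < 72, tb cTr k i < 72 ∧ ∀ x, Crd x (root i) → Crd (hm g x) (root (tb cTr k i)) :=
  fun n hn => by
  have e := of_decide_eq_true (allb_iff.1 h n hn)
  refine ⟨e.1, fun x hx => crd_iff.2 fun i => ?_⟩
  have : Pl (hm g x) = ap m (Pl x) := hg x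
  rw [this, funext (crd_iff.1 hx), ap_24, e.2]

noncomputable def gv : Co0 := ex_v.choose
noncomputable def gσ : Co0 := ex_σ.choose
noncomputable def gρ : Co0 := ex_ρ.choose
noncomputable def gμ : Co0 := ex_u.choose
noncomputable def gd' : Co0 := ex_d.choose
theorem rv : Rep gv (tw sv 1) := ex_v.choose_spec
theorem rσ : Rep gσ (tw sσ 1) := ex_σ.choose_spec
theorem rμ : Rep gμ (tw su 1) := ex_u.choose_spec
theorem rd : Rep gd' (tw sd 1) := ex_d.choose_spec

/-- the letters -/
noncomputable def lt (k : ℕ) : Co0 :=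
  if k = 1 then gv else if k = 2 then gσ else if k = 3 then gρ else if k = 4 then io gr else 1

theorem tk_ρ : Tk gρ (tb cTq 3) (tb cTr 3) := by
  obtain ⟨h1, h2⟩ := ex_ρ.choose_spec
  have hq : gρ ∈ NQ := mem_NQ.2 fun x hx => ⟨_, rfl, h1 x hx⟩
  refine .of h1 (fun _ _ => rfl) (fun _ => rfl) (by decide +kernel) fun n hn => ?_
  have e := of_decide_eq_true (allb_iff.1 (by decide +kernel : allb (fun n => decide
    (tb cTr 3 n < 72 ∧ ∀ i : Fin 12, i.val < 3 → (3 : ℤ) • (24 * ex (root n) i) -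
      (b1 (fun i => 24 * ex (root n) i) : Ei) = (3 : ℤ) • (24 * ex (root (tb cTr 3 n)) i))) 72 = true)
    n hn)
  refine ⟨e.1, fun x hx => crd_iff.2 fun i => ?_⟩
  by_cases hi : i.val < 3
  · have h := h2 x i hi
    rw [funext (crd_iff.1 hx), e.2 i hi] at h
    have h1 := congrArg QuadraticAlgebra.re h
    have h2 := congrArg QuadraticAlgebra.im h
    ext
    exacts [mul_left_cancel₀ (by decide : (3 : ℤ) ≠ 0) h1,
      mul_left_cancel₀ (by decide : (3 : ℤ) ≠ 0) h2]
  · rw [inM_NQ hq hx.1 i (by omega), ex, dif_neg hi, mul_zero]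

theorem tk_lt (k : ℕ) : Tk (lt k) (tb cTq k) (tb cTr k) := by
  unfold lt
  split_ifs with h1 h2 h3 h4
  · subst h1
    exact .of (fun x _ => cj_v rv x) (fun _ h => h) (fun _ => rfl) (by decide +kernel)
      (mono_rt rv (by decide +kernel))
  · subst h2
    exact .of (fun x _ => cj_σ rσ x) (fun _ h => h) (fun _ => rfl) (by decide +kernel)
      (mono_rt rσ (by decide +kernel))
  · subst h3; exact tk_ρ
  · subst h4
    exact .of (fun x _ => cj_r x) (fun _ h => h) (fun _ => rfl) (by decide +kernel)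
      (mono_rt (io_rep gr) (by decide +kernel))
  · have : ∀ c x, tb c k x = x := fun c x => by
      have : (Nat.blt 0 k && Nat.blt k 5) = false := by
        rw [Bool.and_eq_false_iff, ← Bool.not_eq_true, ← Bool.not_eq_true, Nat.blt_eq, Nat.blt_eq]
        omega
      rw [tb, this]; rfl
    simp only [Tk, this]
    exact ⟨fun x hx => ⟨x, hx, by simp, rfl⟩, fun i hi => ⟨hi, fun x hx => hx⟩⟩

/-- the element of a word -/
noncomputable def gw (w n : ℕ) : Co0 := Nat.rec 1 (fun i acc => lt (app 3 w i) * acc) n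

theorem tk_gw (w n : ℕ) : Tk (gw w n) (fun x => evw cTq w x n) fun x => evw cTr w x n := by
  induction n with
  | zero => exact ⟨fun x hx => ⟨x, hx, by simp [gw], rfl⟩, fun i hi => ⟨hi, fun x hx => hx⟩⟩
  | succ n ih => exact (tk_lt _).mul ih

def only (c w : ℕ) : Bool := allb (fun i => Nat.beq (app 3 w i) 0 || Nat.beq (app 3 w i) c) 12

theorem gw_pow {c w : ℕ} (h : only c w = true) : ∃ a : ℕ, gw w 12 = lt c ^ a := by
  suffices ∀ n ≤ 12, ∃ a : ℕ, gw w n = lt c ^ a from this 12 le_rfl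
  intro n hn
  induction n with
  | zero => exact ⟨0, rfl⟩
  | succ n ih =>
    obtain ⟨a, ha⟩ := ih (by omega)
    have := allb_iff.1 h n hn
    rw [Bool.or_eq_true, beq_iff, beq_iff] at this
    change ∃ a : ℕ, lt (app 3 w n) * gw w n = _
    rcases this with e | e <;> rw [e, ha]
    · exact ⟨a, by simp [lt]⟩
    · exact ⟨a + 1, (pow_succ' _ _).symm⟩

def okb (u v : ℕ) : Bool :=
  let w1 := app 36 cW1 u
  let v1 := evw cTq w1 v 12
  let w2 := app 36 cW2 v1
  let t := fun i => Nat.blt (evw cTr w2 (evw cTr w1 i 12) 12) 6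
  Nat.beq (evw cTq w1 u 12) 1 && Nat.beq (evw cTq w2 1 12) 1 && Nat.beq (evw cTq w2 v1 12) 3 &&
    (!((t 0 && t 1) || (t 0 && t 2) || (t 1 && t 2)) || (only 1 w1 && only 2 w2))

/-- commuting and independent modulo `Z` -/
def Val (q s a z q' s' a' z' : K3) : Prop := a * q' + z * s' = a' * q + z' * s ∧
  ¬(q' = 0 ∧ s' = 0 ∧ a' = 0 ∧ z' = 0) ∧
  ∀ i : K3, ¬(q = i * q' ∧ s = i * s' ∧ a = i * a' ∧ z = i * z')

instance decVal (q s a z q' s' a' z' : K3) : Decidable (Val q s a z q' s' a' z') := by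
  unfold Val; infer_instance

theorem ck_ok : ∀ q s a z q' s' a' z', Val q s a z q' s' a' z' →
    okb (enc ⟨0, q, s, 0, a, z⟩) (enc ⟨0, q', s', 0, a', z'⟩) = true := by decide +kernel

end Cfsg.Agent.Fu.T
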